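import Cfsg.Agent.H348.PPD.Rows_m3
import Cfsg.Agent.S4504
import Cfsg.Agent.Blocks.BlockKer
import Cfsg.Agent.SmallSimple.PSLTwoPart
import Cfsg.Agent.H729.PairMathieu
import Cfsg.Agent.S2062
import Cfsg.Agent.H603.SporElim
import Cfsg.Agent.Prune
set_option linter.all false

-- part: H348/PPD/Half
section
set_option linter.all false
open scoped Cfsg.Agent.FastGrp

/-!
# No irreducible character of degree `(p - 1) / 2` (helper348)
-/

set_option autoImplicit false

open Cfsg Subgroup
open Cfsg.Agent.Characters.Core Cfsg.Agent.H794.PP Cfsg.Agent.H29.MinExt Cfsg.Agent.H681.DegBasic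
open Cfsg.Agent.H348.PPD.Aut

namespace Cfsg.Agent.H348.PPD.Half

universe u

variable {X : Type u} [Group X] [Finite X]

theorem faithful (hs : IsSimpleGroup X) {χ : X → ℂ} (hχ : IsIrrCharacter X χ) (h1 : χ 1 ≠ 1) {x : X}
    (hx : χ x = χ 1) : x = 1 := by
  classical
  have : Fintype X := Fintype.ofFinite X
  obtain ⟨K, hK, hKmem⟩ := Cfsg.Agent.Blocks.BlockKer.exists_kernel hχ
  rcases hK.eq_bot_or_eq_top with h | h
  · have h1 := (hKmem x).2 hx
    rwa [h, Subgroup.mem_bot] at h1
  · exfalso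
    have h3 : χ = χ 1 • (1 : X → ℂ) := by
      funext g
      have h2 := (hKmem g).1 (by rw [h]; trivial)
      rw [Pi.smul_apply, Pi.one_apply, smul_eq_mul, mul_one, h2]
    have h2 : classInner χ (1 : X → ℂ) = 0 := classInner_irr_ne hχ isIrr_one (fun h4 => h1 (by rw [h4]; rfl))
    rw [h3, classInner_smul_left, classInner_irr_self isIrr_one, mul_one] at h2
    exact isIrr_apply_one_ne_zero hχ h2

/-- A simple group whose order is divisible once by `p` and is not `p (p ^ 2 - 1) / 2` has no irreducible character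
of degree `(p - 1) / 2`. -/
theorem half (hs : IsSimpleGroup X) (hc : center X = ⊥) {p n d : ℕ} (hp : p.Prime) (hn : Nat.card X = n)
    (hdiv : p ∣ n) (hsq : ¬ p ^ 2 ∣ n) (hne : 2 * n ≠ p * (p ^ 2 - 1)) (hd : 2 * d + 1 = p) (hd1 : d ≠ 1)
    {χ : X → ℂ} (hχ : IsIrrCharacter X χ) (h1 : χ 1 = d) : False := by
  have : Fact p.Prime := ⟨hp⟩
  have hdeg : charDegree χ = d := by
    rw [charDegree, h1, Complex.natCast_re, Nat.floor_natCast]
  have h2 := Cfsg.Agent.S4504.result (G := X) p hp (by rw [hn]; exact hdiv) (by rw [hn]; exact hsq) (fun H hH hcard => by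
    rcases hH.eq_bot_or_eq_top with h | h
    · rw [h, card_bot] at hcard
      exact hp.one_lt.ne hcard
    · rw [h, card_top, hn] at hcard
      have h3 : IsCyclic X := isCyclic_of_prime_card (p := p) (by rw [hn, hcard])
      have h4 : center X = ⊤ := by
        rw [eq_top_iff]
        intro a _
        rw [mem_center_iff]
        intro b
        exact (IsCyclic.isMulCommutative : IsMulCommutative X).is_comm.comm b a
      have h5 : Nat.card (⊤ : Subgroup X) = 1 := by rw [← h4, hc, card_bot]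
      rw [card_top, hn, hcard] at h5
      exact hp.one_lt.ne' h5) χ (isIrr_isCharacter hχ)
    (fun g hg => faithful hs hχ (by rw [h1]; exact_mod_cast hd1) hg) (by rw [hdeg, hd])
  obtain ⟨e⟩ := h2
  have h3 : Nat.card (X ⧸ center X) = n := by
    have h4 := (center X).card_mul_index
    rw [hc, card_bot, one_mul] at h4
    rw [hc, ← hn, ← h4]
    rfl
  have h4 := Nat.card_congr e.toEquiv
  rw [h3] at h4
  have h5 := Cfsg.Agent.SmallSimple.PSLTwoPart.card_psl_two_odd (F := ZMod p) (by
    rw [ZMod.card]; exact ⟨d, hd.symm⟩)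
  rw [← h4, ZMod.card] at h5
  exact hne h5

end Cfsg.Agent.H348.PPD.Half
end

-- part: H348/PPD/RowM22
section
set_option linter.all false
open scoped Cfsg.Agent.FastGrp

/-!
# The row of `M₂₂` (helper348)
-/

set_option autoImplicit false

open Cfsg Subgroup
open Cfsg.Agent.Characters.Core Cfsg.Agent.H794.PP Cfsg.Agent.H29.MinExt
open Cfsg.Agent.H348.PPD.Aut Cfsg.Agent.H348.PPD.Crit

namespace Cfsg.Agent.H348.PPD.RowM22

universe u

section
open Cfsg.Agent.SporadicA.GolayBase Cfsg.Agent.SporadicA.GolayPerm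
open Cfsg.Agent.SporadicStructure.M24El Cfsg.Agent.H729.Trans Cfsg.Agent.H729.MData Cfsg.Agent.H729.Count
open Cfsg.Agent.H729.M24Deg Cfsg.Agent.H729.M22Deg Cfsg.Agent.H729.PairMathieu

theorem cent5 : ∃ x : Spor.M22, orderOf x = 5 ∧ Nat.card (centralizer ({x} : Set Spor.M22)) = 5 := by
  have : Fact (Nat.Prime 5) := ⟨by norm_num⟩
  obtain ⟨x, hx⟩ := exists_el (ok_of_pre preM5) (by decide +kernel) (by decide +kernel)
  have hx5 : orderOf x = 5 := by rw [← orderOf_inc, hx, oM5]
  have hfin : Finite Spor.M22 := Nat.finite_of_card_ne_zero (by rw [Cfsg.Agent.H729.M22Deg.card_M22]; norm_num)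
  refine ⟨x, hx5, ?_⟩
  have h1 : ∀ z ∈ centralizer ({x} : Set Spor.M22), z ^ 5 = 1 := fun z hz =>
    pow_eq_one_of_list inc inc_injective preM5 hx (fun g => st_M (by decide +kernel) g) (n := 5)
      (by decide +kernel) (mem_centralizer_singleton_iff.1 hz)
  have h2 : IsPGroup 5 (centralizer ({x} : Set Spor.M22)) := fun z => ⟨1, by
    rw [pow_one]
    exact Subtype.ext (h1 z z.2)⟩
  obtain ⟨n, hn⟩ := IsPGroup.iff_card.1 h2
  have h3 : 5 ^ n ∣ 443520 := by
    rw [← hn, ← Cfsg.Agent.H729.M22Deg.card_M22]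
    exact card_subgroup_dvd_card _
  have h4 : n ≤ 1 := by
    by_contra h
    have h5 : 5 ^ 2 ∣ 443520 := (pow_dvd_pow 5 (by omega : 2 ≤ n)).trans h3
    norm_num at h5
  have h5 : zpowers x ≤ centralizer ({x} : Set Spor.M22) := zpowers_le.2 (mem_centralizer_singleton_iff.2 rfl)
  have h6 := card_le_of_le h5
  rw [Nat.card_zpowers, hx5, hn] at h6
  rw [hn]
  interval_cases n
  · omega
  · rfl

end

theorem not_bad (hc : center Spor.M22 = ⊥)
    (hidx : (MulAut.conj : Spor.M22 →* MulAut Spor.M22).range.index = 2) (d : ℕ) (hd : IsPrimePow d)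
    (B : BadData Spor.M22 d) : False := by
  have hn : Nat.card Spor.M22 = 443520 := Cfsg.Agent.NotCT.Orders.m22 ⟨MulEquiv.refl _⟩
  have hs : IsSimpleGroup Spor.M22 := Cfsg.Agent.SporadicA.MathieuRecog.simple_M22
  have hfin : Finite Spor.M22 := Nat.finite_of_card_ne_zero (by rw [hn]; norm_num)
  obtain ⟨x, hx, hcx⟩ := cent5
  have hm := deg_mem B hd hn [(2, 7), (3, 2), (5, 1), (7, 1), (11, 1)] (by
      intro q hq
      simp only [List.mem_cons, List.not_mem_nil, or_false] at hq
      rcases hq with rfl | rfl | rfl | rfl | rfl <;> norm_num) (by simp) (by decide +kernel)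
  have k1 := okOne_of hc hidx (by norm_num) (by norm_num) hn (by norm_num) hx hcx B
  have key : ∀ d ∈ ppDivs [(2, 7), (3, 2), (5, 1), (7, 1), (11, 1)],
      okOne 443520 5 d = true → d = 5 := by
    decide +kernel
  have hd5 := key d hm k1
  subst hd5
  exact Half.half hs hc (by norm_num : Nat.Prime 11) hn (by norm_num) (by norm_num) (by norm_num) (by norm_num)
    (by norm_num) B.χ.2 B.deg

theorem row {S : Type u} [Group S] [Finite S] [IsSimpleGroup S] (hna : ¬ IsMulCommutative S) (h : Spor.IsoM22 S)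
    (hp : HasPP S) : ExtPP S :=
  Rows.row_two Cfsg.Agent.S2062.result not_bad hna h.some hp

end Cfsg.Agent.H348.PPD.RowM22
end
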